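import Cfsg.Agent.Lib.Spor.Fi22.OuterClass.Lifts
import Cfsg.Agent.Lib.Spor.Fi22.PairCent.Large

/-!
Every outer involution of Fi22 is conjugate to one of three standard ones.
-/

set_option autoImplicit false
set_option maxRecDepth 100000

namespace CfsgLib.Spor.Fi22.OuterClass

open CfsgLib.PresCert Cfsg.Spor CfsgLib.Spor.Fi22.PairCent
open CfsgLib.Spor.Fi22.OuterFix (tpN)

local instance : Finite Cfsg.Spor.Fi22 := Fi22.finite

local notation "𝔸" => MulAut Cfsg.Spor.Fi22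

local instance : Finite 𝔸 := aut_finite

theorem card_fi22 : Nat.card Cfsg.Spor.Fi22 = 64561751654400 := by
  obtain ⟨F, _, _, σ, hF, h, hP⟩ := setting.exists_pmap
  rw [setting.card_group hP]
  norm_num

theorem inn_injective : Function.Injective inn := fun _ _ h => inn_inj h

theorem card_aut : Nat.card 𝔸 = 129123503308800 := by
  have h := (MulAut.conj : Cfsg.Spor.Fi22 →* 𝔸).range.card_mul_index
  rw [index_inn, ← Nat.card_congr (MonoidHom.ofInjective inn_injective).toEquiv, card_fi22] at h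
  omega

theorem card_cAut : Nat.card (Subgroup.centralizer ({jA} : Set 𝔸)) = 106168320 := by
  obtain ⟨f, hf⟩ : ∃ f : cGrp × Bool → Subgroup.centralizer ({jA} : Set 𝔸), ∀ p : cGrp × Bool,
      ((f p : Subgroup.centralizer ({jA} : Set 𝔸)) : 𝔸) = cond p.2 (inn p.1 * PairCent.tau) (inn p.1) :=
    ⟨fun p => ⟨cond p.2 (inn p.1 * PairCent.tau) (inn p.1),
      mem_cAut.2 ⟨p.1, p.1.2, by cases p.2; exacts [Or.inl rfl, Or.inr rfl]⟩⟩, fun _ => rfl⟩
  have hb : Function.Bijective f := by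
    refine ⟨fun p q h => ?_, fun φ => ?_⟩
    · have h' := congrArg Subtype.val h
      rw [hf, hf] at h'
      obtain ⟨x, s⟩ := p
      obtain ⟨y, t⟩ := q
      cases s <;> cases t <;> simp only [cond_true, cond_false] at h'
      · rw [Subtype.ext (inn_inj h')]
      · exact absurd h' (inn_ne_tau _ _)
      · exact absurd h'.symm (inn_ne_tau _ _)
      · rw [Subtype.ext (inn_tau_inj h')]
    · obtain ⟨φ, hφ⟩ := φ
      obtain ⟨c, hc, h | h⟩ := mem_cAut.1 hφ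
      · exact ⟨(⟨c, hc⟩, false), Subtype.ext ((hf _).trans h.symm)⟩
      · exact ⟨(⟨c, hc⟩, true), Subtype.ext ((hf _).trans h.symm)⟩
  rw [← Nat.card_eq_of_bijective f hb, Nat.card_prod, card_cGrp]
  simp

theorem factor_two (k r : ℕ) (hr : ¬ 2 ∣ r) : (2 ^ k * r).factorization 2 = k := by
  rw [Nat.factorization_mul (pow_ne_zero _ (by norm_num)) (fun h => hr (by rw [h]; exact dvd_zero 2)), Finsupp.add_apply,
    Nat.Prime.factorization_pow Nat.prime_two, Finsupp.single_eq_same, Nat.factorization_eq_zero_of_not_dvd hr,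
    add_zero]

theorem exists_conj_cAut {t : 𝔸} (ht : t * t = 1) :
    ∃ g : 𝔸, g * t * g⁻¹ ∈ Subgroup.centralizer ({jA} : Set 𝔸) := by
  haveI : Fact (Nat.Prime 2) := ⟨Nat.prime_two⟩
  have hp : IsPGroup 2 (Subgroup.zpowers t) := by
    intro y
    obtain ⟨y, hy⟩ := y
    obtain ⟨k, rfl⟩ := Subgroup.mem_zpowers_iff.1 hy
    refine ⟨1, Subtype.ext ?_⟩
    show (t ^ k) ^ (2 ^ 1) = 1
    rw [pow_one, ← zpow_natCast, ← zpow_mul, mul_comm, zpow_mul, zpow_natCast, pow_two, ht, one_zpow]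
  obtain ⟨P, hP⟩ := hp.exists_le_sylow
  obtain ⟨S0⟩ : Nonempty (Sylow 2 ↥(Subgroup.centralizer ({jA} : Set 𝔸))) := inferInstance
  obtain ⟨T, hT⟩ : ∃ T, T = (S0 : Subgroup ↥(Subgroup.centralizer ({jA} : Set 𝔸))).map
      (Subgroup.centralizer ({jA} : Set 𝔸)).subtype := ⟨_, rfl⟩
  have hcT : Nat.card T = 2 ^ (Nat.card 𝔸).factorization 2 := by
    rw [hT, Subgroup.card_map_of_injective (Subgroup.subtype_injective _), S0.card_eq_multiplicity, card_cAut,
      card_aut, show (106168320 : ℕ) = 2 ^ 18 * 405 by norm_num,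
      show (129123503308800 : ℕ) = 2 ^ 18 * 492567075 by norm_num, factor_two _ _ (by norm_num),
      factor_two _ _ (by norm_num)]
  obtain ⟨S, hS⟩ : ∃ S : Sylow 2 𝔸, (S : Subgroup 𝔸) = T := ⟨Sylow.ofCard _ hcT, rfl⟩
  obtain ⟨g, hg⟩ := MulAction.exists_smul_eq 𝔸 P S
  refine ⟨g, ?_⟩
  have hmem : g * t * g⁻¹ ∈ (S : Subgroup 𝔸) := by
    rw [← hg, Sylow.coe_subgroup_smul]
    exact ⟨t, hP (Subgroup.mem_zpowers t), by simp [MulAut.conj_apply]⟩
  rw [hS, hT] at hmem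
  exact Subgroup.map_subtype_le _ hmem

theorem stdX_two : stdX 2 = tpN stdA * tpN stdB := rfl

/-- the three classes of outer involutions -/
theorem outer_class (t : 𝔸) (ht : orderOf t = 2) (hout : t ∉ (MulAut.conj : Cfsg.Spor.Fi22 →* 𝔸).range) :
    IsConj t PairCent.tau ∨ IsConj t (PairCent.tau * MulAut.conj (tpN stdA)) ∨
      IsConj t (PairCent.tau * MulAut.conj (tpN stdA * tpN stdB)) := by
  have ht2 : t * t = 1 := by rw [← pow_two, ← ht, pow_orderOf_eq_one]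
  obtain ⟨g, hg⟩ := exists_conj_cAut ht2
  obtain ⟨u, hu⟩ : ∃ u, u = g * t * g⁻¹ := ⟨_, rfl⟩
  have htu : IsConj t u := isConj_iff.2 ⟨g, hu.symm⟩
  have hu2 : u * u = 1 := by
    rw [hu, show g * t * g⁻¹ * (g * t * g⁻¹) = g * (t * t) * g⁻¹ by group, ht2, mul_one, mul_inv_cancel]
  rw [← hu] at hg
  haveI hnorm : ((MulAut.conj : Cfsg.Spor.Fi22 →* 𝔸).range).Normal := Subgroup.normal_of_index_eq_two index_inn
  obtain ⟨c, hc, h | h⟩ := mem_cAut.1 hg
  · exfalso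
    apply hout
    have : t = g⁻¹ * u * g⁻¹⁻¹ := by rw [hu]; group
    rw [this]
    exact hnorm.conj_mem _ (by rw [h]; exact ⟨c, rfl⟩) g⁻¹
  obtain ⟨x, hx⟩ : ∃ x, x = PairCent.tau c := ⟨_, rfl⟩
  have hxC : x ∈ cGrp := hx ▸ tau_cGrp hc
  have hux : u = PairCent.tau * inn x := by rw [h, hx, tau_inn, tau_tau]
  have hval : PairCent.tau x * x = 1 := by
    rw [hux, tau_inn, prod_tt, tau_tau] at hu2
    have := inn_inj (hu2.trans (map_one inn).symm)
    exact this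
  have hblk : blkHom ⟨x, hxC⟩ * blkHom ⟨x, hxC⟩ = 1 := by
    nth_rw 1 [← blkHom_tau ⟨x, hxC⟩]
    rw [← map_mul, show (⟨PairCent.tau x, tau_cGrp hxC⟩ : cGrp) * ⟨x, hxC⟩ = 1 from Subtype.ext hval, map_one]
  obtain ⟨j, hj, d, hd⟩ := block_class ⟨x, hxC⟩ hblk
  obtain ⟨y, hy⟩ : ∃ y, y = PairCent.tau (d : Cfsg.Spor.Fi22)⁻¹ * x * d := ⟨_, rfl⟩
  have htw : Tw x y := ⟨(d : Cfsg.Spor.Fi22)⁻¹, by rw [hy, mul_inv_cancel_right]⟩
  have hyC : y ∈ cGrp := hy ▸ mul_mem (mul_mem (tau_cGrp (inv_mem d.2)) hxC) d.2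
  have hyb : blkHom ⟨y, hyC⟩ = blkHom (cw (hWords.getD j [])) := by
    rw [← hd, show (⟨y, hyC⟩ : cGrp) = ⟨PairCent.tau ((d⁻¹ : cGrp) : Cfsg.Spor.Fi22), tau_cGrp (d⁻¹).2⟩ *
      ⟨x, hxC⟩ * d from Subtype.ext hy, map_mul, map_mul, map_mul, map_mul, blkHom_tau]
  have hker : (cw (hWords.getD j []))⁻¹ * ⟨y, hyC⟩ ∈ blkHom.ker := by
    rw [MonoidHom.mem_ker, map_mul, map_inv, hyb, inv_mul_cancel]
  rw [blocks_main.1, Subgroup.mem_subgroupOf] at hker
  obtain ⟨m, hm, em⟩ := emE_all hker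
  have hyl : y = lift j m := by
    rw [lift, ← em, Subgroup.coe_mul, InvMemClass.coe_inv, mul_inv_cancel_left]
  have hyval : PairCent.tau y * y = 1 := by
    rw [hy, map_mul, map_mul, tau_tau, map_inv,
      show (d : Cfsg.Spor.Fi22)⁻¹ * PairCent.tau x * PairCent.tau (d : Cfsg.Spor.Fi22) *
          ((PairCent.tau (d : Cfsg.Spor.Fi22))⁻¹ * x * (d : Cfsg.Spor.Fi22)) =
        (d : Cfsg.Spor.Fi22)⁻¹ * (PairCent.tau x * x) * (d : Cfsg.Spor.Fi22) by group,
      hval, mul_one, inv_mul_cancel]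
  obtain ⟨s, hs, htw2⟩ := lift_class hj hm (hyl ▸ hyval)
  rw [← hyl] at htw2
  have hfin := htu.trans (hux ▸ (htw.trans htw2).conj)
  interval_cases s
  · left
    have e : stdX 0 = 1 := rfl
    rwa [e, map_one, mul_one] at hfin
  · exact Or.inr (Or.inl hfin)
  · exact Or.inr (Or.inr hfin)

end CfsgLib.Spor.Fi22.OuterClass
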