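import Cfsg.Agent.Lib.Spor.Fi22.PairCent.Action
import Cfsg.Agent.Lib.Spor.Fi22.OuterClass.Data

/-!
An element of the centraliser of the product of a commuting pair whose image on the 45 blocks squares to the
identity is, up to conjugation on the blocks, one of five.
-/

set_option autoImplicit false
set_option maxRecDepth 100000

namespace CfsgLib.Spor.Fi22.OuterClass

open CfsgLib.PresCert Cfsg.Spor CfsgLib.Spor.Fi22.PairCent

local instance : Finite Cfsg.Spor.Fi22 := Fi22.finite

/-- the image of a point under a word in the eleven generators -/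
noncomputable def runC : List ℕ → ℕ → ℕ
  | [], i => i
  | k :: w, i => runC w (hRow k i)

/-- the image of a block under a word -/
noncomputable def runB : List ℕ → ℕ → ℕ
  | [], i => i
  | k :: w, i => runB w (rData.img k i)

/-- the element of a word -/
noncomputable def cw (w : List ℕ) : cGrp := (w.reverse.map gC).prod

theorem cw_nil : cw [] = 1 := rfl

theorem cw_cons (k : ℕ) (w : List ℕ) : cw (k :: w) = cw w * gC k := by simp [cw, List.prod_append]

theorem gC_row (k : ℕ) (hk : k < 11) (i : Fin Perm.data.n) :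
    ((π ((gC k : cGrp) : Cfsg.Spor.Fi22) i : Fin Perm.data.n) : ℕ) = hRow k i := by
  rw [hRow, gC]
  split
  · exact xk_img k ‹_› i
  · exact xs_img i

theorem runC_img : ∀ (w : List ℕ), (∀ k ∈ w, k < 11) → ∀ i : Fin Perm.data.n,
    ((π ((cw w : cGrp) : Cfsg.Spor.Fi22) i : Fin Perm.data.n) : ℕ) = runC w i
  | [], _, i => by simp [cw, runC]
  | k :: w, hw, i => by
    rw [cw_cons, Subgroup.coe_mul, map_mul, Equiv.Perm.mul_apply,
      runC_img w (fun x hx => hw x (List.mem_cons_of_mem _ hx)), gC_row k (hw k List.mem_cons_self)]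
    rfl

theorem runB_img : ∀ (w : List ℕ), (∀ k ∈ w, k < 11) → ∀ j : Fin 45,
    ((blkHom (cw w) j : Fin 45) : ℕ) = runB w j
  | [], _, j => by simp [cw_nil, runB]
  | k :: w, hw, j => by
    rw [cw_cons, map_mul, Equiv.Perm.mul_apply,
      runB_img w (fun x hx => hw x (List.mem_cons_of_mem _ hx)), gC_img k (hw k List.mem_cons_self)]
    rfl

/-- all letters below eleven -/
noncomputable def okW (w : List ℕ) : Bool := w.all fun k => Nat.blt k 11

theorem okW_spec {w : List ℕ} (h : okW w = true) : ∀ k ∈ w, k < 11 := fun k hk =>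
  Nat.blt_eq ▸ List.all_eq_true.1 h k hk

/-- packed images of the separating blocks -/
noncomputable def sCode (w : List ℕ) : ℕ :=
  sPts.foldl (fun c p => Nat.add (Nat.mul c 64) (runB w p)) 0

/-- pairwise different numbers -/
noncomputable def diffB : List ℕ → Bool
  | [] => true
  | x :: l => (l.all fun y => !Nat.beq x y) && diffB l

theorem sylow_ok : (sWords.all okW && sGens.all okW && Nat.beq sWords.length 128 &&
    allBelow 128 (fun i => allBelow sGens.length fun s =>
      let j := (sNext.getD i []).getD s 0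
      Nat.blt j 128 && allBelow 45 fun p =>
        Nat.beq (runB (sWords.getD j []) p) (runB (sGens.getD s []) (runB (sWords.getD i []) p))) &&
    allBelow 128 (fun i => Nat.beq (sCode (sWords.getD i [])) (sCodes.getD i 0)) &&
    allBelow 45 (fun p => Nat.beq (runB (sWords.getD 0 []) p) p) &&
    diffB sCodes && Nat.beq sCodes.length 128) = true := by
  decide +kernel

theorem sWord_mem (i : ℕ) : sWords.getD i [] ∈ sWords ∨ sWords.getD i [] = [] := by
  rcases lt_or_ge i sWords.length with h | h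
  · exact Or.inl (getD_mem h)
  · exact Or.inr (List.getD_eq_default _ _ h)

theorem sWord_ok (i : ℕ) : okW (sWords.getD i []) = true := by
  have h := sylow_ok
  simp only [Bool.and_eq_true] at h
  rcases sWord_mem i with e | e
  · exact List.all_eq_true.1 h.1.1.1.1.1.1.1 _ e
  · rw [e]; rfl

/-- the image of an element of the list -/
noncomputable def sEl (i : ℕ) : Equiv.Perm (Fin 45) := blkHom (cw (sWords.getD i []))

/-- a subgroup of order 128 on the blocks -/
noncomputable def sylow : Subgroup (Equiv.Perm (Fin 45)) :=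
  Subgroup.closure {σ | ∃ s < sGens.length, σ = blkHom (cw (sGens.getD s []))}

theorem sylow_sub {σ : Equiv.Perm (Fin 45)} (hσ : σ ∈ sylow) : ∃ i < 128, σ = sEl i := by
  have h := sylow_ok
  simp only [Bool.and_eq_true, Nat.beq_eq] at h
  obtain ⟨⟨⟨⟨⟨⟨⟨-, hg⟩, -⟩, hnext⟩, -⟩, hone⟩, -⟩, -⟩ := h
  have step : ∀ i < 128, ∀ s < sGens.length, ∃ j < 128, blkHom (cw (sGens.getD s [])) * sEl i = sEl j := by
    intro i hi s hs
    have h1 := allBelow_spec (allBelow_spec hnext i hi) s hs
    simp only [Bool.and_eq_true, Nat.blt_eq] at h1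
    refine ⟨_, h1.1, Equiv.ext fun p => Fin.ext ?_⟩
    have h2 := Nat.eq_of_beq_eq_true (allBelow_spec h1.2 p p.2)
    rw [Equiv.Perm.mul_apply, sEl, sEl, runB_img _ (okW_spec (List.all_eq_true.1 hg _ (getD_mem hs))),
      runB_img _ (okW_spec (sWord_ok i)), runB_img _ (okW_spec (sWord_ok _))]
    exact h2.symm
  have h0 : sEl 0 = 1 := Equiv.ext fun p => Fin.ext (by
    rw [sEl, runB_img _ (okW_spec (sWord_ok 0)), Equiv.Perm.one_apply]
    exact Nat.eq_of_beq_eq_true (allBelow_spec hone p p.2))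
  have key : ∀ τ ∈ sylow, ∀ i < 128, ∃ j < 128, τ * sEl i = sEl j := by
    intro τ hτ
    have hmon : τ ∈ Submonoid.closure {σ | ∃ s < sGens.length, σ = blkHom (cw (sGens.getD s []))} := by
      rw [← Subgroup.closure_toSubmonoid_of_finite]
      exact hτ
    induction hmon using Submonoid.closure_induction with
    | mem y hy => obtain ⟨s, hs, rfl⟩ := hy; exact fun i hi => step i hi s hs
    | one => exact fun i hi => ⟨i, hi, one_mul _⟩
    | mul a b ha hb iha ihb =>
      intro i hi
      obtain ⟨j, hj, e⟩ := ihb (by rw [← Subgroup.mem_toSubmonoid, sylow, Subgroup.closure_toSubmonoid_of_finite]; exact hb) i hi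
      obtain ⟨k, hk, e'⟩ := iha (by rw [← Subgroup.mem_toSubmonoid, sylow, Subgroup.closure_toSubmonoid_of_finite]; exact ha) j hj
      exact ⟨k, hk, by rw [mul_assoc, e, e']⟩
  obtain ⟨j, hj, e⟩ := key σ hσ 0 (by norm_num)
  exact ⟨j, hj, by rw [← e, h0, mul_one]⟩

theorem sEl_distinct {i j : ℕ} (hi : i < 128) (hj : j < 128) (h : sEl i = sEl j) : i = j := by
  have h' := sylow_ok
  simp only [Bool.and_eq_true, Nat.beq_eq] at h'
  obtain ⟨⟨⟨⟨⟨⟨⟨-, -⟩, -⟩, -⟩, hcode⟩, -⟩, hdiff⟩, hlen⟩ := h'
  have hc : sCode (sWords.getD i []) = sCode (sWords.getD j []) := by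
    have hp : ∀ p < 45, runB (sWords.getD i []) p = runB (sWords.getD j []) p := fun p hp => by
      have e := congrArg (fun σ : Equiv.Perm (Fin 45) => ((σ ⟨p, hp⟩ : Fin 45) : ℕ)) h
      simp only [sEl, runB_img _ (okW_spec (sWord_ok _))] at e
      exact e
    have hpts : ∀ p ∈ sPts, p < 45 := by decide
    unfold sCode
    revert hpts
    generalize 0 = c₀
    generalize sPts = l
    intro hpts
    induction l generalizing c₀ with
    | nil => rfl
    | cons a l ih =>
      rw [List.foldl_cons, List.foldl_cons, hp a (hpts a List.mem_cons_self)]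
      exact ih _ fun p hp' => hpts p (List.mem_cons_of_mem _ hp')
  rw [Nat.eq_of_beq_eq_true (allBelow_spec hcode i hi), Nat.eq_of_beq_eq_true (allBelow_spec hcode j hj)] at hc
  have hnd : sCodes.Nodup := by
    have : ∀ l : List ℕ, diffB l = true → l.Nodup := by
      intro l
      induction l with
      | nil => exact fun _ => List.nodup_nil
      | cons a l ih =>
        intro hl
        simp only [diffB, Bool.and_eq_true, List.all_eq_true, Bool.not_eq_true', ← Bool.not_eq_true, Nat.beq_eq] at hl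
        exact List.nodup_cons.2 ⟨fun hm => hl.1 a hm rfl, ih hl.2⟩
    exact this _ hdiff
  rw [List.getD_eq_getElem _ _ (hlen ▸ hi), List.getD_eq_getElem _ _ (hlen ▸ hj)] at hc
  exact hnd.getElem_inj_iff.1 hc

theorem sylow_le : sylow ≤ blkHom.range := (Subgroup.closure_le _).2 fun _ ⟨_, _, e⟩ => e ▸ ⟨_, rfl⟩

theorem card_sylow : Nat.card sylow = 128 := by
  have hgen : ∀ s < sGens.length, blkHom (cw (sGens.getD s [])) ∈ sylow := fun s hs =>
    Subgroup.subset_closure ⟨s, hs, rfl⟩
  have hwords : ∀ i < 128, sEl i ∈ sylow := by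
    intro i hi
    -- each listed word is a word in the generators
    have hchk : allBelow 128 (fun i => Nat.beq i 0 || allBelow 128 (fun k => true) &&
        (List.range 128).any fun k => (List.range sGens.length).any fun s =>
          Nat.blt k i && Nat.beq ((sNext.getD k []).getD s 0) i) = true := by decide +kernel
    induction i using Nat.strong_induction_on with
    | _ i ih =>
      have h1 := allBelow_spec hchk i hi
      simp only [Bool.or_eq_true, Bool.and_eq_true, List.any_eq_true, List.mem_range, Nat.blt_eq, Nat.beq_eq] at h1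
      have h := sylow_ok
      simp only [Bool.and_eq_true, Nat.beq_eq] at h
      obtain ⟨⟨⟨⟨⟨⟨⟨-, hg⟩, -⟩, hnext⟩, -⟩, hone⟩, -⟩, -⟩ := h
      rcases h1 with rfl | ⟨-, k, hk, s, hs, hki, e⟩
      · rw [show sEl 0 = 1 from Equiv.ext fun p => Fin.ext (by
          rw [sEl, runB_img _ (okW_spec (sWord_ok 0)), Equiv.Perm.one_apply]
          exact Nat.eq_of_beq_eq_true (allBelow_spec hone p p.2))]
        exact one_mem _
      · have h2 := allBelow_spec (allBelow_spec hnext k hk) s hs
        simp only [Bool.and_eq_true, e] at h2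
        have : sEl i = blkHom (cw (sGens.getD s [])) * sEl k := Equiv.ext fun p => Fin.ext (by
          rw [Equiv.Perm.mul_apply, sEl, sEl, runB_img _ (okW_spec (List.all_eq_true.1 hg _ (getD_mem hs))),
            runB_img _ (okW_spec (sWord_ok i)), runB_img _ (okW_spec (sWord_ok k))]
          exact Nat.eq_of_beq_eq_true (allBelow_spec h2.2 p p.2))
        rw [this]
        exact mul_mem (hgen s hs) (ih k hki hk)
  obtain ⟨f, hf⟩ : ∃ f : Fin 128 → sylow, ∀ i, (f i : Equiv.Perm (Fin 45)) = sEl i :=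
    ⟨fun i => ⟨sEl i, hwords i i.2⟩, fun _ => rfl⟩
  have hb : Function.Bijective f := by
    refine ⟨fun i j h => Fin.ext (sEl_distinct i.2 j.2 (by rw [← hf, ← hf, h])), fun σ => ?_⟩
    obtain ⟨i, hi, e⟩ := sylow_sub σ.2
    exact ⟨⟨i, hi⟩, Subtype.ext ((hf _).trans e.symm)⟩
  rw [← Nat.card_eq_of_bijective f hb, Nat.card_fin]

theorem card_range : Nat.card blkHom.range = 51840 := by
  haveI : Finite cGrp := inferInstance
  obtain ⟨hk, -⟩ := blocks_main
  have h := Subgroup.card_eq_card_quotient_mul_card_subgroup blkHom.ker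
  rw [Nat.card_congr (QuotientGroup.quotientKerEquivRange blkHom).toEquiv, card_cGrp, hk,
    Nat.card_congr (Subgroup.subgroupOfEquivOfLe (eGrp_le.trans kGrp_le.1)).toEquiv, card_eGrp] at h
  omega

theorem class_ok : allBelow 128 (fun i =>
    let c := sClass.getD i (0, [])
    cond (Nat.beq c.1 5)
      (let p := c.2.getD 0 0
       Nat.blt p 45 && !Nat.beq (runB (sWords.getD i []) (runB (sWords.getD i []) p)) p)
      (Nat.blt c.1 5 && okW c.2 && okW (hWords.getD c.1 []) && allBelow 45 fun p =>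
        Nat.beq (runB (sWords.getD i []) (runB c.2 p)) (runB c.2 (runB (hWords.getD c.1 []) p)))) = true := by
  decide +kernel

/-- the five classes on the blocks -/
theorem block_class (x : cGrp) (hx : blkHom x * blkHom x = 1) :
    ∃ j < 5, ∃ g : cGrp, blkHom (g⁻¹ * x * g) = blkHom (cw (hWords.getD j [])) := by
  haveI : Fact (Nat.Prime 2) := ⟨Nat.prime_two⟩
  obtain ⟨β, hβ⟩ : ∃ β : blkHom.range, (β : Equiv.Perm (Fin 45)) = blkHom x := ⟨⟨blkHom x, x, rfl⟩, rfl⟩
  have hβ2 : β ^ 2 = 1 := Subtype.ext (by rw [pow_two, Subgroup.coe_mul, hβ, hx]; rfl)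
  have hp : IsPGroup 2 (Subgroup.zpowers β) := by
    intro y
    obtain ⟨y, hy⟩ := y
    obtain ⟨k, rfl⟩ := Subgroup.mem_zpowers_iff.1 hy
    refine ⟨1, Subtype.ext ?_⟩
    show (β ^ k) ^ (2 ^ 1) = 1
    rw [pow_one, ← zpow_natCast, ← zpow_mul, mul_comm, zpow_mul, zpow_natCast, hβ2, one_zpow]
  obtain ⟨P, hP⟩ := hp.exists_le_sylow
  have hcS : Nat.card (sylow.subgroupOf blkHom.range) = 128 := by
    rw [Nat.card_congr (Subgroup.subgroupOfEquivOfLe sylow_le).toEquiv, card_sylow]
  have hexp : Nat.card (sylow.subgroupOf blkHom.range) = 2 ^ (Nat.card blkHom.range).factorization 2 := by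
    rw [hcS, card_range, show (51840 : ℕ) = 2 ^ 7 * 405 by norm_num,
      Nat.factorization_mul (by norm_num) (by norm_num), Finsupp.add_apply,
      Nat.Prime.factorization_pow Nat.prime_two, Finsupp.single_eq_same,
      Nat.factorization_eq_zero_of_not_dvd (by norm_num : ¬ 2 ∣ 405)]
    norm_num
  obtain ⟨S, hS⟩ : ∃ S : Sylow 2 blkHom.range, (S : Subgroup blkHom.range) = sylow.subgroupOf blkHom.range :=
    ⟨Sylow.ofCard _ hexp, rfl⟩
  obtain ⟨γ, hγ⟩ := MulAction.exists_smul_eq blkHom.range P S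
  have hmem : γ * β * γ⁻¹ ∈ (S : Subgroup blkHom.range) := by
    rw [← hγ, Sylow.coe_subgroup_smul]
    exact ⟨β, hP (Subgroup.mem_zpowers β), by simp [MulAut.conj_apply]⟩
  rw [hS, Subgroup.mem_subgroupOf] at hmem
  obtain ⟨i, hi, e⟩ := sylow_sub hmem
  obtain ⟨c0, hc0⟩ := γ.2
  have hsq : sEl i * sEl i = 1 := by
    rw [← e, ← Subgroup.coe_mul, show γ * β * γ⁻¹ * (γ * β * γ⁻¹) = γ * (β * β) * γ⁻¹ by group, ← pow_two, hβ2,
      mul_one, mul_inv_cancel]
    rfl
  have hc := allBelow_spec class_ok i hi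
  rcases hk : Nat.beq (sClass.getD i (0, [])).1 5 with - | -
  · simp only [hk, cond_false, Bool.and_eq_true, Nat.blt_eq] at hc
    obtain ⟨⟨⟨hj, hw⟩, hh⟩, hall⟩ := hc
    refine ⟨_, hj, c0⁻¹ * cw (sClass.getD i (0, [])).2, ?_⟩
    have e' : blkHom c0 * blkHom x * (blkHom c0)⁻¹ = sEl i := by rw [hc0, ← hβ, ← e]; rfl
    have e2 : sEl i * blkHom (cw (sClass.getD i (0, [])).2) =
        blkHom (cw (sClass.getD i (0, [])).2) * blkHom (cw (hWords.getD (sClass.getD i (0, [])).1 [])) :=
      Equiv.ext fun p => Fin.ext (by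
        rw [Equiv.Perm.mul_apply, Equiv.Perm.mul_apply, sEl, runB_img _ (okW_spec (sWord_ok i)),
          runB_img _ (okW_spec hw), runB_img _ (okW_spec hw), runB_img _ (okW_spec hh)]
        exact Nat.eq_of_beq_eq_true (allBelow_spec hall p p.2))
    rw [map_mul, map_mul, map_inv, map_mul blkHom c0⁻¹, map_inv, mul_inv_rev, inv_inv]
    calc (blkHom (cw (sClass.getD i (0, [])).2))⁻¹ * blkHom c0 * blkHom x *
          ((blkHom c0)⁻¹ * blkHom (cw (sClass.getD i (0, [])).2))
        = (blkHom (cw (sClass.getD i (0, [])).2))⁻¹ * ((blkHom c0 * blkHom x * (blkHom c0)⁻¹) *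
            blkHom (cw (sClass.getD i (0, [])).2)) := by group
      _ = _ := by rw [e', e2, inv_mul_cancel_left]
  · simp only [hk, cond_true, Bool.and_eq_true, Nat.blt_eq, Bool.not_eq_true', ← Bool.not_eq_true,
      Nat.beq_eq] at hc
    exfalso
    have h2 := congrArg (fun σ : Equiv.Perm (Fin 45) => ((σ ⟨_, hc.1⟩ : Fin 45) : ℕ)) hsq
    simp only [Equiv.Perm.mul_apply, Equiv.Perm.one_apply, sEl, runB_img _ (okW_spec (sWord_ok i))] at h2
    exact hc.2 h2

end CfsgLib.Spor.Fi22.OuterClass
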