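import Cfsg.Agent.Lib.Spor.Fi22.OuterClass.Blocks
import Cfsg.Agent.Lib.Spor.Fi22.OuterFix.Base

/-!
The lifts of the five classes giving involutions are twisted conjugate to one of three standard elements.
-/

set_option autoImplicit false
set_option maxRecDepth 100000

namespace CfsgLib.Spor.Fi22.OuterClass

open CfsgLib.PresCert Cfsg.Spor CfsgLib.Spor.Fi22.PairCent
open CfsgLib.Spor.FischerTypes (cls22)
open CfsgLib.Spor.Fi22.OuterFix (tpN step okP)

local instance : Finite Cfsg.Spor.Fi22 := Fi22.finite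

/-- twisted conjugacy -/
def Tw (x y : Cfsg.Spor.Fi22) : Prop := ∃ d, y * d = PairCent.tau d * x

theorem Tw.refl (x : Cfsg.Spor.Fi22) : Tw x x := ⟨1, by simp⟩

theorem Tw.symm {x y : Cfsg.Spor.Fi22} (h : Tw x y) : Tw y x := by
  obtain ⟨d, h⟩ := h
  refine ⟨d⁻¹, ?_⟩
  rw [map_inv, eq_inv_mul_iff_mul_eq, ← mul_assoc, ← h, mul_inv_cancel_right]

theorem Tw.trans {x y z : Cfsg.Spor.Fi22} (h : Tw x y) (h' : Tw y z) : Tw x z := by
  obtain ⟨d, h⟩ := h
  obtain ⟨e, h'⟩ := h'
  exact ⟨e * d, by rw [map_mul, ← mul_assoc, h', mul_assoc, h, ← mul_assoc]⟩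

theorem Tw.conj {x y : Cfsg.Spor.Fi22} (h : Tw x y) :
    IsConj (PairCent.tau * MulAut.conj x) (PairCent.tau * MulAut.conj y) := by
  obtain ⟨d, h⟩ := h
  refine isConj_iff.2 ⟨MulAut.conj d, ?_⟩
  rw [show y = PairCent.tau d * x * d⁻¹ by rw [← h, mul_inv_cancel_right]]
  refine MulEquiv.ext fun g => ?_
  simp [MulAut.mul_apply, MulAut.conj_apply, tau_tau, mul_assoc]

/-- the bits of a number below 1024 -/
noncomputable def bits (m : ℕ) : List ℕ := (List.range 10).filter fun k => Nat.testBit m k

theorem bits_lt (m : ℕ) : ∀ k ∈ bits m, k < 10 := fun _ hk => List.mem_range.1 (List.mem_of_mem_filter hk)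

/-- the element of the normal subgroup with given bits -/
noncomputable def emE (m : ℕ) : Cfsg.Spor.Fi22 := ((bits m).reverse.map xe).prod

theorem bits_ok : (allBelow 10 fun k => allBelow 1024 fun m => !Nat.blt m (2 ^ k) ||
    bits (m + 2 ^ k) == bits m ++ [k]) = true ∧ bits 0 = [] := by
  decide +kernel

/-- every element of the normal subgroup has bits -/
theorem emE_all {x : Cfsg.Spor.Fi22} (hx : x ∈ eGrp) : ∃ m < 1024, x = emE m := by
  suffices h : ∀ k ≤ 10, ∀ x ∈ eChain k, ∃ m < 2 ^ k, x = emE m by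
    exact h 10 le_rfl x hx
  intro k
  induction k with
  | zero =>
    intro _ x hx
    have : eChain 0 = ⊥ := by
      rw [eChain, Subgroup.closure_eq_bot_iff]
      rintro y ⟨j, hj, -⟩
      omega
    rw [this, Subgroup.mem_bot] at hx
    exact ⟨0, by norm_num, by rw [hx, emE, bits_ok.2]; rfl⟩
  | succ k ih =>
    intro hk x hx
    have hk' : k < 10 := by omega
    have hsub : ∀ j < k, xe j ∈ eChain k := fun j hj => Subgroup.subset_closure ⟨j, hj, rfl⟩
    have hn : ∀ y ∈ eChain k, xe k * y * (xe k)⁻¹ ∈ eChain k := by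
      have hle : eChain k ≤ (eChain k).comap (MulAut.conj (xe k)).toMonoidHom := by
        refine (Subgroup.closure_le _).2 ?_
        rintro _ ⟨j, hj, rfl⟩
        show xe k * xe j * (xe k)⁻¹ ∈ eChain k
        have same : xe k * xe j = xe j * xe k → xe k * xe j * (xe k)⁻¹ ∈ eChain k := fun e => by
          rw [e, mul_inv_cancel_right]; exact hsub j hj
        rcases lt_or_ge k 2 with h2 | h2
        · exact same (xe_low j k (by omega) h2)
        rcases xe_comm j k (by omega) hk' with e | e
        · exact same e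
        · rw [e, mul_assoc gz, mul_inv_cancel_right]
          refine mul_mem ?_ (hsub j hj)
          rw [gz, ← xe_zero, ← xe_one]
          exact mul_mem (hsub 0 (by omega)) (hsub 1 (by omega))
      exact fun y hy => hle hy
    have hinv : (xe k)⁻¹ = xe k := inv_eq_of_mul_eq_one_right (xe_sq k hk')
    have key : ∃ y ∈ eChain k, x = y ∨ x = xe k * y := by
      induction hx using Subgroup.closure_induction with
      | mem v hv =>
        obtain ⟨j, hj, rfl⟩ := hv
        rcases Nat.lt_succ_iff_lt_or_eq.1 hj with h | rfl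
        exacts [⟨_, hsub j h, Or.inl rfl⟩, ⟨1, one_mem _, Or.inr (mul_one _).symm⟩]
      | one => exact ⟨1, one_mem _, Or.inl rfl⟩
      | mul a b _ _ iha ihb =>
        obtain ⟨a', ha', ea⟩ := iha
        obtain ⟨b', hb', eb⟩ := ihb
        rcases ea with ea | ea <;> rcases eb with eb | eb <;> subst ea <;> subst eb
        · exact ⟨_, mul_mem ha' hb', Or.inl rfl⟩
        · refine ⟨_, mul_mem (hn _ ha') hb', Or.inr ?_⟩
          calc a * (xe k * b') = xe k * xe k * a * (xe k * b') := by rw [xe_sq k hk', one_mul]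
            _ = _ := by rw [hinv]; group
        · exact ⟨_, mul_mem ha' hb', Or.inr (by rw [mul_assoc])⟩
        · refine ⟨_, mul_mem (hn _ ha') hb', Or.inl ?_⟩
          rw [hinv, ← mul_assoc]
      | inv a _ iha =>
        obtain ⟨a', ha', ea⟩ := iha
        rcases ea with ea | ea <;> subst ea
        · exact ⟨_, inv_mem ha', Or.inl rfl⟩
        · refine ⟨_, hn _ (inv_mem ha'), Or.inr ?_⟩
          rw [mul_inv_rev, hinv, ← mul_assoc, ← mul_assoc, xe_sq k hk', one_mul]
    obtain ⟨y, hy, e⟩ := key
    obtain ⟨m, hm, em⟩ := ih (by omega) y hy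
    have h2 : 2 ^ (k + 1) = 2 ^ k + 2 ^ k := by rw [pow_succ]; omega
    rcases e with e | e
    · exact ⟨m, by omega, e.trans em⟩
    · refine ⟨m + 2 ^ k, by omega, ?_⟩
      have hm' : m < 1024 := lt_of_lt_of_le hm (le_trans (Nat.pow_le_pow_right (by norm_num) hk'.le) (by norm_num))
      have hb := allBelow_spec (allBelow_spec bits_ok.1 k hk') m hm'
      rw [show Nat.blt m (2 ^ k) = true by rw [Nat.blt_eq]; exact hm, Bool.not_true, Bool.false_or, beq_iff_eq] at hb
      rw [e, em, emE, emE, hb]
      simp [List.prod_append]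

/-- the lift -/
noncomputable def lift (j m : ℕ) : Cfsg.Spor.Fi22 := ((cw (hWords.getD j []) : cGrp) : Cfsg.Spor.Fi22) * emE m

/-- the permutation of a lift followed by the involution -/
noncomputable def sImg (j m p : ℕ) : ℕ := tauTab.half (runC (hWords.getD j []) (eApp (bits m) p))

/-- the image under a mover -/
noncomputable def runM (j g p : ℕ) : ℕ :=
  cond (Nat.blt g 10) (eApp [g] p) (runC ((centWords.getD j []).getD (g - 10) []) p)

/-- a mover -/
noncomputable def mv (j g : ℕ) : Cfsg.Spor.Fi22 :=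
  if g < 10 then xe g else ((cw ((centWords.getD j []).getD (g - 10) []) : cGrp) : Cfsg.Spor.Fi22)

/-- the entry of a lift -/
noncomputable def entry (j m : ℕ) : ℕ := liftTab.half (1024 * j + m)

/-- the nine points -/
noncomputable def gp (q : ℕ) : ℕ := genPts.getD q 0

/-- the standard targets -/
noncomputable def target (t p : ℕ) : ℕ :=
  cond (Nat.beq t 0) p (cond (Nat.beq t 1) (step stdA p) (step stdA (step stdB p)))

/-- the standard elements -/
noncomputable def stdX (t : ℕ) : Cfsg.Spor.Fi22 :=
  if t = 0 then 1 else if t = 1 then tpN stdA else tpN stdA * tpN stdB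

/-- a root is settled -/
noncomputable def okRoot (j m r : ℕ) : Bool :=
  let R := roots.getD r (0, 0, 0, [])
  Nat.blt r roots.length && Nat.beq R.1 j && Nat.beq R.2.1 m && Nat.blt R.2.2.1 3 &&
    (R.2.2.2.all fun k => Nat.blt k 9) &&
    allBelow 9 fun q => Nat.beq (sImg j m (Strict.appS Perm.data R.2.2.2 (gp q)))
      (Strict.appS Perm.data R.2.2.2 (tauTab.half (target R.2.2.1 (gp q))))

/-- one step to the parent -/
noncomputable def okStep (j m e : ℕ) : Bool :=
  let par := Nat.shiftRight e 4
  let g := Nat.land e 15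
  Nat.blt par 1024 && (Nat.blt g 10 || okW ((centWords.getD j []).getD (g - 10) [])) &&
    allBelow 9 fun q => Nat.beq (sImg j m (runM j g (gp q))) (runM j g (sImg j par (gp q)))

/-- following the entries reaches a root -/
noncomputable def reach (j : ℕ) : ℕ → ℕ → Bool
  | 0, _ => false
  | f + 1, m =>
    let e := entry j m
    cond (Nat.blt e 16384) (okStep j m e && reach j f (Nat.shiftRight e 4))
      (Nat.blt e 32768 && okRoot j m (e - 16384))

/-- a bad lift is not an involution -/
noncomputable def okBad (j m : ℕ) : Bool :=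
  let q := entry j m - 32768
  Nat.blt q 9 && !Nat.beq (sImg j m (sImg j m (gp q))) (gp q)

theorem std_ok : okP stdA = true ∧ okP stdB = true ∧ (hWords.all okW) = true := by decide +kernel

theorem lifts_ok0 : (allBelow 1024 fun m => cond (Nat.blt (entry 0 m) 32768) (reach 0 13 m) (okBad 0 m)) = true := by
  decide +kernel

theorem lifts_ok1 : (allBelow 1024 fun m => cond (Nat.blt (entry 1 m) 32768) (reach 1 13 m) (okBad 1 m)) = true := by
  decide +kernel

theorem lifts_ok2 : (allBelow 1024 fun m => cond (Nat.blt (entry 2 m) 32768) (reach 2 13 m) (okBad 2 m)) = true := by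
  decide +kernel

theorem lifts_ok3 : (allBelow 1024 fun m => cond (Nat.blt (entry 3 m) 32768) (reach 3 13 m) (okBad 3 m)) = true := by
  decide +kernel

theorem lifts_ok4 : (allBelow 1024 fun m => cond (Nat.blt (entry 4 m) 32768) (reach 4 13 m) (okBad 4 m)) = true := by
  decide +kernel

theorem hWord_ok (j : ℕ) : okW (hWords.getD j []) = true := by
  rcases lt_or_ge j hWords.length with h | h
  · exact List.all_eq_true.1 std_ok.2.2 _ (getD_mem h)
  · rw [List.getD_eq_default _ _ h]; rfl

theorem sImg_eq (j m : ℕ) (i : Fin Perm.data.n) :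
    ((sigmaP (π (lift j m) i) : Fin Perm.data.n) : ℕ) = sImg j m i := by
  rw [sigmaP_val, lift, map_mul, Equiv.Perm.mul_apply, runC_img _ (okW_spec (hWord_ok j)), emE,
    eApp_prod _ (bits_lt m)]
  rfl

theorem gp_eq (q : ℕ) (hq : q < 9) : gp q = ((genPt q hq : Fin Perm.data.n) : ℕ) := rfl

/-- equal as soon as the twisted products agree at nine points -/
theorem tw_of_nine {x y d : Cfsg.Spor.Fi22}
    (h : ∀ q (hq : q < 9), sigmaP (π y (π d (genPt q hq))) = π d (sigmaP (π x (genPt q hq)))) : Tw x y := by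
  refine ⟨d, eq_of_nine fun q hq => ?_⟩
  rw [map_mul, map_mul, Equiv.Perm.mul_apply, Equiv.Perm.mul_apply, π_tau, ← h q hq,
    ← Equiv.Perm.mul_apply sigmaP sigmaP, sigmaP_sq, Equiv.Perm.one_apply]

theorem reach_spec (j : ℕ) : ∀ (f m : ℕ), reach j f m = true → ∃ t < 3, Tw (lift j m) (stdX t)
  | 0, m, h => absurd h Bool.false_ne_true
  | f + 1, m, h => by
    simp only [reach] at h
    rcases hb : Nat.blt (entry j m) 16384 with - | -
    · simp only [hb, cond_false, okRoot, Bool.and_eq_true, Nat.blt_eq, Nat.beq_eq, List.all_eq_true] at h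
      obtain ⟨-, ⟨⟨⟨⟨-, -⟩, -⟩, ht⟩, hl⟩, hall⟩ := h
      generalize roots.getD (entry j m - 16384) (0, 0, 0, []) = R at ht hl hall
      refine ⟨_, ht, Tw.symm (tw_of_nine (d := el R.2.2.2) fun q hq => Fin.ext ?_)⟩
      rw [sImg_eq, el_img _ hl, el_img _ hl, sigmaP_val, ← gp_eq q hq,
        Nat.eq_of_beq_eq_true (allBelow_spec hall q hq)]
      congr 2
      obtain ⟨ok1, ok2, -⟩ := std_ok
      rw [gp_eq q hq]
      generalize genPt q hq = i
      unfold stdX target
      rcases lt_trichotomy R.2.2.1 1 with h1 | h1 | h1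
      · rw [show R.2.2.1 = 0 by omega, if_pos rfl, map_one, Equiv.Perm.one_apply]
        rfl
      · rw [h1, if_neg (by norm_num), if_pos rfl, OuterFix.step_img ok1]
        rfl
      · rw [show R.2.2.1 = 2 by omega, if_neg (by norm_num), if_neg (by norm_num), map_mul, Equiv.Perm.mul_apply,
          OuterFix.step_img ok1, OuterFix.step_img ok2]
        rfl
    · simp only [hb, cond_true, okStep, Bool.and_eq_true, Bool.or_eq_true, Nat.blt_eq] at h
      obtain ⟨⟨⟨-, hg⟩, hall⟩, hrec⟩ := h
      obtain ⟨t, ht, htw⟩ := reach_spec j f _ hrec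
      refine ⟨t, ht, Tw.trans (Tw.symm ?_) htw⟩
      generalize Nat.shiftRight (entry j m) 4 = par at hall
      generalize Nat.land (entry j m) 15 = g at hall hg
      refine tw_of_nine (d := mv j g) fun q hq => Fin.ext ?_
      have hmv : ∀ i : Fin Perm.data.n, ((π (mv j g) i : Fin Perm.data.n) : ℕ) = runM j g i := by
        intro i
        rw [mv, runM]
        rcases lt_or_ge g 10 with h10 | h10
        · rw [if_pos h10, show Nat.blt g 10 = true by rw [Nat.blt_eq]; exact h10, cond_true, xe_img g h10]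
          simp [eApp, Strict.appS_eq, PermData.app]
        · rw [if_neg (by omega), show Nat.blt g 10 = false by rw [← Bool.not_eq_true, Nat.blt_eq]; omega, cond_false,
            runC_img _ (okW_spec (hg.resolve_left (by omega)))]
      rw [sImg_eq, hmv, hmv, sImg_eq, ← gp_eq q hq]
      exact Nat.eq_of_beq_eq_true (allBelow_spec hall q hq)

theorem entry_cases (j m : ℕ) (hj : j < 5) (hm : m < 1024) :
    reach j 13 m = true ∨ okBad j m = true := by
  have key : ∀ {c : Bool} {x y : Bool}, cond c x y = true → x = true ∨ y = true := by decide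
  rcases j with _ | _ | _ | _ | _ | j
  · exact key (allBelow_spec lifts_ok0 m hm)
  · exact key (allBelow_spec lifts_ok1 m hm)
  · exact key (allBelow_spec lifts_ok2 m hm)
  · exact key (allBelow_spec lifts_ok3 m hm)
  · exact key (allBelow_spec lifts_ok4 m hm)
  · omega

/-- the involutory lifts are twisted conjugate to the standard elements -/
theorem lift_class {j m : ℕ} (hj : j < 5) (hm : m < 1024) (h : PairCent.tau (lift j m) * lift j m = 1) :
    ∃ t < 3, Tw (lift j m) (stdX t) := by
  rcases entry_cases j m hj hm with q | q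
  · exact reach_spec j 13 m q
  · exfalso
    simp only [okBad, Bool.and_eq_true, Nat.blt_eq, Bool.not_eq_true', ← Bool.not_eq_true, Nat.beq_eq] at q
    obtain ⟨hq, hne⟩ := q
    rw [gp_eq _ hq, ← sImg_eq, ← sImg_eq] at hne
    refine hne (congrArg Fin.val ?_)
    rw [← π_tau, ← Equiv.Perm.mul_apply, ← map_mul, h, map_one, Equiv.Perm.one_apply]

end CfsgLib.Spor.Fi22.OuterClass
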